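import Cfsg.Agent.H141.Rg.Defs

/-!
# S5714: almost all pairs generate (second moment)
-/

set_option autoImplicit false

namespace Cfsg.Agent.H705.Rg

open Cfsg Cfsg.Agent.OrdDiv Cfsg.Agent.H436 Cfsg.Agent.H141.Rg

universe u

/-- the pair count (task W1) -/
def PairCount (T : Type u) [Group T] : Prop :=
  ∀ (E : Set T), CInv E → ∀ ρ : ℝ, 0 ≤ ρ → ∀ z : T, Rat ρ z →
    (Nat.card {x : T // x ∈ E ∧ x * z ∈ E} : ℝ) * Nat.card T ≤
      (Nat.card E : ℝ) ^ 2 + ρ * Nat.card E * Nat.card T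

section

variable {T : Type u} [Group T] [Finite T]

open Classical in
/-- the second moment bound -/
theorem card_miss (hPC : PairCount T) {w ρ : ℝ} {K : ℕ} (hK : 1 ≤ K) (hw : 0 < w) (hρ : 0 ≤ ρ)
    {E : Set T} (hE : CInv E) (hwE : (Nat.card T : ℝ) ≤ w * Nat.card E) {y : T}
    (hy : ∀ m : ℕ, 1 ≤ m → m ≤ K → Rat ρ (y ^ m)) :
    (Nat.card {x : T // ∀ i < K, x * y ^ i ∉ E} : ℝ) ≤ (1 / K + ρ) * w * Nat.card T := by
  have : Fintype T := Fintype.ofFinite T
  set N : ℝ := (Nat.card T : ℝ) with hN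
  have hN0 : 0 < N := by
    rw [hN]
    exact_mod_cast Nat.card_pos
  set e : ℝ := (Nat.card E : ℝ) with he
  have he0 : 0 < e := by
    by_contra h
    have h1 : w * e ≤ 0 := mul_nonpos_of_nonneg_of_nonpos hw.le (not_lt.1 h)
    linarith
  have hK0 : (0 : ℝ) < K := by exact_mod_cast hK
  let f : T → T → ℝ := fun x z => if x * z ∈ E then 1 else 0
  have hfE : ∀ z : T, ∑ x, f x z = e := by
    intro z
    have h1 : ∑ x, f x z = ∑ x : T, if x ∈ E then (1 : ℝ) else 0 :=
      Fintype.sum_equiv (Equiv.mulRight z) _ _ fun x => rfl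
    rw [h1, Finset.sum_ite, Finset.sum_const_zero, add_zero, Finset.sum_const, nsmul_eq_mul, mul_one,
      he, Nat.card_eq_fintype_card, Fintype.card_subtype]
  -- pairs
  have hpair : ∀ i j : ℕ, i < j → j < K + 1 → ∑ x, f x (y ^ i) * f x (y ^ j) ≤ e ^ 2 / N + ρ * e := by
    intro i j hij hj
    have h1 : ∑ x, f x (y ^ i) * f x (y ^ j) =
        ∑ x : T, if x ∈ E ∧ x * y ^ (j - i) ∈ E then (1 : ℝ) else 0 := by
      refine Fintype.sum_equiv (Equiv.mulRight (y ^ i)) _ _ fun x => ?_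
      show f x (y ^ i) * f x (y ^ j) = if x * y ^ i ∈ E ∧ x * y ^ i * y ^ (j - i) ∈ E then (1 : ℝ) else 0
      have h2 : x * y ^ i * y ^ (j - i) = x * y ^ j := by
        rw [mul_assoc, ← pow_add, Nat.add_sub_cancel' hij.le]
      rw [h2]
      simp only [f]
      by_cases h3 : x * y ^ i ∈ E <;> by_cases h4 : x * y ^ j ∈ E <;> simp [h3, h4]
    have h2 : (∑ x : T, if x ∈ E ∧ x * y ^ (j - i) ∈ E then (1 : ℝ) else 0) =
        Nat.card {x : T // x ∈ E ∧ x * y ^ (j - i) ∈ E} := by
      rw [Finset.sum_ite, Finset.sum_const_zero, add_zero, Finset.sum_const, nsmul_eq_mul, mul_one,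
        Nat.card_eq_fintype_card, Fintype.card_subtype]
    have h3 := hPC E hE ρ hρ (y ^ (j - i)) (hy (j - i) (by omega) (by omega))
    rw [h1, h2]
    have h4 : (e ^ 2 / N + ρ * e) = (e ^ 2 + ρ * e * N) / N := by
      field_simp
    rw [h4, le_div_iff₀ hN0]
    exact h3
  let X : T → ℝ := fun x => ∑ i ∈ Finset.range K, f x (y ^ i)
  have hX1 : ∑ x, X x = K * e := by
    simp only [X]
    rw [Finset.sum_comm]
    simp only [hfE]
    rw [Finset.sum_const, Finset.card_range, nsmul_eq_mul]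
  have hX2 : ∑ x, X x ^ 2 ≤ K * e + K ^ 2 * (e ^ 2 / N + ρ * e) := by
    have h1 : ∀ x, X x ^ 2 = ∑ i ∈ Finset.range K, ∑ j ∈ Finset.range K, f x (y ^ i) * f x (y ^ j) := by
      intro x
      rw [pow_two, Finset.sum_mul_sum]
    simp only [h1]
    rw [Finset.sum_comm]
    have h2 : ∀ i ∈ Finset.range K, ∑ x, ∑ j ∈ Finset.range K, f x (y ^ i) * f x (y ^ j) ≤
        e + K * (e ^ 2 / N + ρ * e) := by
      intro i hi
      rw [Finset.sum_comm]
      have hpos : 0 ≤ e ^ 2 / N + ρ * e := by positivity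
      have h3 : ∀ j ∈ Finset.range K, ∑ x, f x (y ^ i) * f x (y ^ j) ≤
          (if j = i then e else 0) + (e ^ 2 / N + ρ * e) := by
        intro j hj
        rw [Finset.mem_range] at hi hj
        rcases lt_trichotomy i j with h | h | h
        · rw [if_neg (by omega)]
          linarith [hpair i j h (by omega)]
        · subst h
          rw [if_pos rfl]
          have h4 : ∑ x, f x (y ^ i) * f x (y ^ i) = e := by
            rw [← hfE (y ^ i)]
            refine Finset.sum_congr rfl fun x _ => ?_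
            simp only [f]
            by_cases h5 : x * y ^ i ∈ E <;> simp [h5]
          linarith
        · rw [if_neg (by omega)]
          have h4 := hpair j i h (by omega)
          simp only [mul_comm (f _ (y ^ j))] at h4
          linarith
      refine (Finset.sum_le_sum h3).trans ?_
      rw [Finset.sum_add_distrib, Finset.sum_ite_eq' (Finset.range K) i, if_pos hi,
        Finset.sum_const, Finset.card_range, nsmul_eq_mul]
    refine (Finset.sum_le_sum h2).trans ?_
    rw [Finset.sum_const, Finset.card_range, nsmul_eq_mul]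
    apply le_of_eq
    ring
  -- variance
  have hcardT : ((Finset.univ : Finset T).card : ℝ) = N := by
    rw [hN, Nat.card_eq_fintype_card, Finset.card_univ]
  have hvar : ∑ x, (X x - K * e / N) ^ 2 ≤ K * e + K ^ 2 * (ρ * e) := by
    have h1 : ∀ x, (X x - K * e / N) ^ 2 = X x ^ 2 - 2 * (K * e / N) * X x + (K * e / N) ^ 2 := by
      intro x; ring
    simp only [h1]
    rw [Finset.sum_add_distrib, Finset.sum_sub_distrib, ← Finset.mul_sum, hX1, Finset.sum_const,
      nsmul_eq_mul, hcardT]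
    have h2 : K * e / N * N = K * e := by field_simp
    have h3 : N * (K * e / N) ^ 2 = K ^ 2 * (e ^ 2 / N) := by field_simp
    have h4 : 2 * (K * e / N) * (K * e) = 2 * (K ^ 2 * (e ^ 2 / N)) := by ring
    rw [h3, h4]
    linarith
  -- the missed elements
  set Z : Finset T := Finset.univ.filter fun x => ∀ i < K, x * y ^ i ∉ E with hZ
  have hcZ : (Nat.card {x : T // ∀ i < K, x * y ^ i ∉ E} : ℝ) = Z.card := by
    rw [Nat.card_eq_fintype_card, Fintype.card_subtype]
  have hZ1 : (Z.card : ℝ) * (K * e / N) ^ 2 ≤ ∑ x, (X x - K * e / N) ^ 2 := by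
    have h1 : ∑ x ∈ Z, (X x - K * e / N) ^ 2 = Z.card * (K * e / N) ^ 2 := by
      have h0 : ∑ x ∈ Z, (X x - K * e / N) ^ 2 = ∑ _x ∈ Z, (K * e / N) ^ 2 := ?_
      · rw [h0, Finset.sum_const, nsmul_eq_mul]
      refine Finset.sum_congr rfl fun x hx => ?_
      have h2 : X x = 0 := by
        refine Finset.sum_eq_zero fun i hi => ?_
        have h3 := (Finset.mem_filter.1 hx).2 i (Finset.mem_range.1 hi)
        simp only [f]
        rw [if_neg h3]
      rw [h2]; ring
    rw [← h1]
    exact Finset.sum_le_sum_of_subset_of_nonneg (Finset.subset_univ _) fun x _ _ => sq_nonneg _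
  rw [hcZ]
  have h1 := hZ1.trans hvar
  have h2 : (Z.card : ℝ) ≤ (K * e + K ^ 2 * (ρ * e)) / (K * e / N) ^ 2 := by
    rw [le_div_iff₀ (by positivity)]
    exact h1
  have h3 : (K * e + K ^ 2 * (ρ * e)) / (K * e / N) ^ 2 = (1 / K + ρ) * (N / e) * N := by
    field_simp
  rw [h3] at h2
  refine h2.trans ?_
  have h4 : N / e ≤ w := by
    rw [div_le_iff₀ he0]
    exact hwE
  gcongr

/-- `⌊k⌋ ≥ k / 2` -/
theorem floor_bound {k : ℝ} (hk : 1 ≤ k) : 1 ≤ ⌊k⌋₊ ∧ 1 / (⌊k⌋₊ : ℝ) ≤ 2 / k := by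
  have h1 : 1 ≤ ⌊k⌋₊ := by
    rw [Nat.one_le_floor_iff]
    exact hk
  refine ⟨h1, ?_⟩
  have h2 : (1 : ℝ) ≤ ⌊k⌋₊ := by exact_mod_cast h1
  have h3 := Nat.lt_floor_add_one k
  rw [div_le_div_iff₀ (by linarith) (by linarith)]
  linarith

open Classical in
/-- **(W2)** -/
theorem gen_of_pc (hPC : PairCount T) {n : ℕ} {w k ρ η : ℝ} (hw : 0 < w) (hk : 1 ≤ k)
    (hρ : 0 ≤ ρ) (hN : NF n w T) (hη : (badN T k ρ : ℝ) ≤ η * Nat.card T) :
    (1 - η - (n : ℝ) * (w * (2 / k + ρ))) * (Nat.card T : ℝ) ^ 2 ≤ gp T := by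
  have : Fintype T := Fintype.ofFinite T
  obtain ⟨E, hE1, hE2, hE3⟩ := hN
  obtain ⟨hK1, hK2⟩ := floor_bound hk
  set K := ⌊k⌋₊ with hK
  set N : ℝ := (Nat.card T : ℝ) with hNN
  have hN0 : 0 < N := by
    rw [hNN]
    exact_mod_cast Nat.card_pos
  let bad : T → Prop := fun y => ∃ m : ℕ, 1 ≤ m ∧ (m : ℝ) ≤ k ∧ ¬ Rat ρ (y ^ m)
  -- the nongenerating pairs
  set S : Finset (T × T) := Finset.univ.filter fun p => Subgroup.closure {p.1, p.2} = ⊤ with hS
  set S' : Finset (T × T) := Finset.univ.filter fun p => ¬ Subgroup.closure {p.1, p.2} = ⊤ with hS'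
  have hgp : gp T = S.card := by
    unfold gp
    rw [Nat.card_eq_fintype_card, Fintype.card_subtype]
  have hsum : (S.card : ℝ) + S'.card = N ^ 2 := by
    have h1 := Finset.card_filter_add_card_filter_not (s := (Finset.univ : Finset (T × T)))
      (fun p => Subgroup.closure {p.1, p.2} = ⊤)
    rw [Finset.card_univ, Fintype.card_prod] at h1
    rw [hNN, Nat.card_eq_fintype_card]
    have h2 : ((S.card + S'.card : ℕ) : ℝ) = ((Fintype.card T * Fintype.card T : ℕ) : ℝ) := by
      rw [← h1]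
    push_cast at h2
    rw [h2]; ring
  -- the covering
  let B0 : Finset (T × T) := Finset.univ.filter fun p => bad p.2
  let B1 : Fin n → Finset (T × T) := fun i =>
    Finset.univ.filter fun p => ¬ bad p.2 ∧ ∀ j < K, p.1 * p.2 ^ j ∉ E i
  have hcov : S' ⊆ B0 ∪ Finset.univ.biUnion B1 := by
    intro p hp
    rw [hS', Finset.mem_filter] at hp
    rw [Finset.mem_union]
    by_cases hb : bad p.2
    · exact Or.inl (Finset.mem_filter.2 ⟨Finset.mem_univ _, hb⟩)
    · right
      obtain ⟨i, hi⟩ := hE3 _ hp.2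
      refine Finset.mem_biUnion.2 ⟨i, Finset.mem_univ _, Finset.mem_filter.2
        ⟨Finset.mem_univ _, hb, fun j _ => hi _ ?_⟩⟩
      exact Subgroup.mul_mem _ (Subgroup.subset_closure (by simp))
        (Subgroup.pow_mem _ (Subgroup.subset_closure (by simp)) j)
  have hB0 : (B0.card : ℝ) ≤ η * N * N := by
    have h1 : B0 = Finset.univ ×ˢ (Finset.univ.filter bad) := by
      ext p
      simp [B0]
    have h2 : (badN T k ρ : ℝ) = ((Finset.univ.filter bad).card : ℝ) := by
      unfold badN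
      rw [Nat.card_eq_fintype_card, Fintype.card_subtype]
    rw [h1, Finset.card_product, Finset.card_univ, ← Nat.card_eq_fintype_card (α := T)]
    push_cast
    rw [← h2, mul_comm]
    exact mul_le_mul_of_nonneg_right hη hN0.le
  have hB1 : ∀ i, ((B1 i).card : ℝ) ≤ (2 / k + ρ) * w * N * N := by
    intro i
    have h1 : (B1 i).card = ∑ y : T, (Finset.univ.filter fun x : T =>
        ¬ bad y ∧ ∀ j < K, x * y ^ j ∉ E i).card := by
      rw [Finset.card_eq_sum_card_fiberwise (f := Prod.snd) (t := Finset.univ)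
        (fun _ _ => Finset.mem_coe.2 (Finset.mem_univ _))]
      refine Finset.sum_congr rfl fun y _ => ?_
      refine Finset.card_bij (fun p _ => p.1) ?_ ?_ ?_
      · intro p hp
        rw [Finset.mem_filter, Finset.mem_filter] at hp
        obtain ⟨⟨-, h2⟩, rfl⟩ := hp
        exact Finset.mem_filter.2 ⟨Finset.mem_univ _, h2⟩
      · intro p hp q hq hpq
        rw [Finset.mem_filter] at hp hq
        exact Prod.ext hpq (hp.2.trans hq.2.symm)
      · intro x hx
        rw [Finset.mem_filter] at hx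
        exact ⟨(x, y), Finset.mem_filter.2 ⟨Finset.mem_filter.2 ⟨Finset.mem_univ _, hx.2⟩, rfl⟩, rfl⟩
    rw [h1]
    push_cast
    have h2 : ∀ y : T, ((Finset.univ.filter fun x : T =>
        ¬ bad y ∧ ∀ j < K, x * y ^ j ∉ E i).card : ℝ) ≤ (2 / k + ρ) * w * N := by
      intro y
      by_cases hb : bad y
      · have h3 : (Finset.univ.filter fun x : T => ¬ bad y ∧ ∀ j < K, x * y ^ j ∉ E i) = ∅ := by
          rw [Finset.filter_eq_empty_iff]
          intro x _ h4
          exact h4.1 hb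
        rw [h3, Finset.card_empty, Nat.cast_zero]
        have : 0 ≤ 2 / k := by positivity
        positivity
      · have h3 : (Finset.univ.filter fun x : T => ¬ bad y ∧ ∀ j < K, x * y ^ j ∉ E i) =
            Finset.univ.filter fun x : T => ∀ j < K, x * y ^ j ∉ E i := by
          ext x
          simp [hb]
        have h4 : ∀ m : ℕ, 1 ≤ m → m ≤ K → Rat ρ (y ^ m) := by
          intro m hm hmK
          by_contra h5
          refine hb ⟨m, hm, ?_, h5⟩
          have h6 : (m : ℝ) ≤ K := by exact_mod_cast hmK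
          exact h6.trans (Nat.floor_le (by linarith))
        have h5 := card_miss hPC hK1 hw hρ (hE1 i) (hE2 i) h4
        rw [Nat.card_eq_fintype_card, Fintype.card_subtype] at h5
        rw [h3]
        refine h5.trans ?_
        gcongr
    refine (Finset.sum_le_sum fun y _ => h2 y).trans ?_
    rw [Finset.sum_const, nsmul_eq_mul, Finset.card_univ, ← Nat.card_eq_fintype_card, mul_comm]
  have hS'le : (S'.card : ℝ) ≤ η * N * N + n * ((2 / k + ρ) * w * N * N) := by
    have h1 : S'.card ≤ B0.card + ∑ i, (B1 i).card := by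
      refine (Finset.card_le_card hcov).trans ((Finset.card_union_le _ _).trans ?_)
      gcongr
      exact Finset.card_biUnion_le
    have h2 : (S'.card : ℝ) ≤ (B0.card : ℝ) + ∑ i, ((B1 i).card : ℝ) := by exact_mod_cast h1
    refine h2.trans (add_le_add hB0 ?_)
    refine (Finset.sum_le_sum fun i _ => hB1 i).trans ?_
    rw [Finset.sum_const, nsmul_eq_mul, Finset.card_univ, Fintype.card_fin]
  rw [hgp]
  have h3 : (S.card : ℝ) = N ^ 2 - S'.card := by linarith
  rw [h3]
  nlinarith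

end

/-- **(W2)** almost all pairs generate in a family with normal sets and small ratios -/
theorem famGen_of_pc (hPC : ∀ (T : Type) [Group T] [Finite T], PairCount T) {P : Grp → Prop}
    (h1 : FamNF P) (h2 : FamP P) : FamGen P := by
  intro ε hε
  obtain ⟨C, D1, hC, hNF⟩ := h1
  obtain ⟨D2, hP⟩ := h2 3 (ε / 2) (by linarith)
  set M : ℝ := max 1 (6 * C ^ 2 / ε) with hM
  refine ⟨max (max D1 D2) (⌈Real.exp M⌉₊), fun g T _ _ _ hT hg hD => ?_⟩
  have hD1 : D1 ≤ Nat.card T := (le_max_left _ _).trans ((le_max_left _ _).trans hD)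
  have hD2 : D2 ≤ Nat.card T := (le_max_right _ _).trans ((le_max_left _ _).trans hD)
  have hD3 : ⌈Real.exp M⌉₊ ≤ Nat.card T := (le_max_right _ _).trans hD
  obtain ⟨n, hn, hNF'⟩ := hNF g T hT hg hD1
  have hbad := hP g T hT hg hD2
  set l := lg T with hl
  have hlM : M ≤ l := by
    have h3 : Real.exp M ≤ Nat.card T := (Nat.le_ceil _).trans (by exact_mod_cast hD3)
    rw [hl]
    unfold lg
    rw [Real.le_log_iff_exp_le (by exact_mod_cast Nat.card_pos)]
    exact h3
  have hl1 : 1 ≤ l := (le_max_left _ _).trans hlM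
  have hl2 : 6 * C ^ 2 / ε ≤ l := (le_max_right _ _).trans hlM
  have hl0 : 0 < l := by linarith
  have hk : 1 ≤ l ^ 3 := one_le_pow₀ hl1
  have h4 := gen_of_pc (hPC T) (n := n) (w := C * l) (k := l ^ 3) (ρ := (l ^ 3)⁻¹) (η := ε / 2)
    (by positivity) hk (by positivity) hNF' hbad
  refine le_trans ?_ h4
  have h5 : (n : ℝ) * (C * l * (2 / l ^ 3 + (l ^ 3)⁻¹)) ≤ ε / 2 := by
    have h6 : (n : ℝ) * (C * l * (2 / l ^ 3 + (l ^ 3)⁻¹)) ≤
        C * l * (C * l * (2 / l ^ 3 + (l ^ 3)⁻¹)) :=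
      mul_le_mul_of_nonneg_right hn (by positivity)
    refine h6.trans ?_
    have h7 : C * l * (C * l * (2 / l ^ 3 + (l ^ 3)⁻¹)) = 3 * C ^ 2 / l := by
      field_simp
      ring
    rw [h7, div_le_iff₀ hl0]
    rw [div_le_iff₀ hε] at hl2
    nlinarith
  refine mul_le_mul_of_nonneg_right ?_ (by positivity)
  linarith

end Cfsg.Agent.H705.Rg
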